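import Groth.Agent.CurveRR.Curve
import Groth.Agent.CurveRR.TmapR
import Groth.Agent.CurveRR.Deg
import Groth.Agent.W7Slope.H1Quot
import Groth.Agent.W7Fib.Birat
import Groth.Agent.Nakai.UnifReg
import Groth.Agent.RegTilde.Mumford
import Groth.Agent.S8914
import Mathlib.LinearAlgebra.Eigenspace.Triangularizable

/-!
Vanishing of `H^1` of a bundle on a curve through a pencil of maps.
-/

set_option autoImplicit false
set_option backward.isDefEq.respectTransparency false
set_option linter.style.haveILetI false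
set_option linter.unusedSectionVars false

universe u

open CategoryTheory CategoryTheory.Limits AlgebraicGeometry TopologicalSpace Opposite MonoidalCategory
open Groth.Agent.CohFinite Groth.Agent.CurveRR Groth.Agent.W7Slope
open Groth.Agent.QC (res resO res_res res_self res_smul app_res section_eq_of_locally)
open Groth.Agent.WeakAssLib (mgerm mgerm_res stalkHom stalkHom_germ)
open TMul (IsGen IsFrame homOf val_homOf tm)

noncomputable section

namespace Groth.Agent.PencilH1

variable {X : Scheme.{u}}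

lemma hasFrames {E : X.Modules} (hE : FlatMod.IsFinLocFree E) : HasFrames E := fun {U x} hx => by
  obtain ⟨W, m, e, hxW, he⟩ := TMul.exists_isFrame hE x
  exact ⟨U ⊓ W, inf_le_left, m, fun i => res E inf_le_right (e i), ⟨hx, hxW⟩, fun y hy => by
    simpa only [WeakAssLib.mgerm_res] using he y hy.2⟩

lemma homOf_add {L : X.Modules} (s t : Γ(L, ⊤)) : homOf (s + t) = homOf s + homOf t :=
  TMul.hom_ext_val (by
    change _ = TMul.val (homOf s) ⊤ + TMul.val (homOf t) ⊤
    rw [val_homOf, val_homOf, val_homOf, map_add])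

lemma tmap_scal {A B : X.Modules} (φ : A ⟶ B) (c : Γ(X, ⊤)) (T : X.Modules) :
    tmap (φ ≫ scal B c) T = tmap φ T ≫ scal (CohB1.tensorMod B T) c := TMul.hom_ext fun U a t => by
  change (tmap (φ ≫ scal B c) T).app U (tm a t) =
    (scal (CohB1.tensorMod B T) c).app U ((tmap φ T).app U (tm a t))
  rw [tmap_tm, tmap_tm]
  change tm ((show Γ(X, U) from Coh.resTop X (op U) c) • φ.app U a) t =
    (show Γ(X, U) from Coh.resTop X (op U) c) • tm (φ.app U a) t
  exact TMul.smul_tm _ _ _

lemma scal_comp {A B : X.Modules} (φ : A ⟶ B) (c : Γ(X, ⊤)) : scal A c ≫ φ = φ ≫ scal B c :=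
  W7Slope.hom_ext' fun U m => by
    change φ.app U ((show Γ(X, U) from Coh.resTop X (op U) c) • m) =
      (show Γ(X, U) from Coh.resTop X (op U) c) • φ.app U m
    exact Scheme.Modules.Hom.app_smul φ _ _

/-- The section map of the tensor product with a fixed first factor. -/
lemma sheafify_whisker_eq (T : X.Modules) {A B : X.Modules} (φ : A ⟶ B) :
    ((CohB1.sheafifyMod X).map (CohB1.toPMod T ◁ φ.val) : CohB1.tensorMod T A ⟶ CohB1.tensorMod T B) =
      (TMul.commIso T A).hom ≫ tmap φ T ≫ (TMul.commIso B T).hom := by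
  refine TMul.hom_ext fun U t a => ?_
  refine Eq.trans ?_ (show tm t (φ.app U a) = (TMul.commIso B T).hom.app U ((tmap φ T).app U
    ((TMul.commIso T A).hom.app U (tm t a))) by
      change _ = (TMul.commHom B T).app U ((tmap φ T).app U ((TMul.commHom T A).app U (tm t a)))
      rw [TMul.commHom_tm, tmap_tm, TMul.commHom_tm])
  exact (ConcreteCategory.congr_hom (congrArg (fun ψ => PresheafOfModules.Hom.app ψ (op U))
    ((PresheafOfModules.sheafificationAdjunction (𝟙 X.ringCatSheaf.obj)).unit.naturality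
      (CohB1.toPMod T ◁ φ.val))) (TensorProduct.tmul Γ(X, U) t a)).symm

/-- Where a map is onto, its tensor product with a module is onto. -/
lemma support_coker_tmap {A B : X.Modules} (φ : A ⟶ B) (T : X.Modules) :
    CohB1.support (cokernel (tmap φ T)) ⊆ CohB1.support (cokernel φ) := fun x hx => by
  by_contra hxS
  rw [Groth.Agent.QC.notMem_support_iff] at hxS
  refine absurd hx ?_
  rw [Groth.Agent.QC.notMem_support_iff]
  intro U hxU q
  obtain ⟨U₁, h₁, hx₁, w, hw⟩ := TMul.exists_app_eq_of_epi (cokernel.π (tmap φ T)) q hxU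
  obtain ⟨U₂, h₂, p, hx₂, hp⟩ := TMul.exists_tt w hx₁
  suffices h : ∃ (V : X.Opens) (hV : V ≤ U₂), x ∈ V ∧
      res _ hV ((cokernel.π (tmap φ T)).app U₂ (TMul.tt B T U₂ p)) = 0 by
    obtain ⟨V, hV, hxV, hz⟩ := h
    refine ⟨V, (hV.trans h₂).trans h₁, hxV, ?_⟩
    rw [hp, ← app_res, hw, res_res, res_res] at hz
    exact hz
  clear hp
  induction p using TensorProduct.induction_on with
  | zero => exact ⟨U₂, le_rfl, hx₂, by rw [map_zero, map_zero, map_zero]⟩
  | add p q hp hq =>
    obtain ⟨V, hV, hxV, hzp⟩ := hp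
    obtain ⟨W, hW, hxW, hzq⟩ := hq
    refine ⟨V ⊓ W, inf_le_left.trans hV, ⟨hxV, hxW⟩, ?_⟩
    rw [map_add, map_add, map_add, ← res_res _ inf_le_left hV, hzp, ← res_res _ (inf_le_right : V ⊓ W ≤ W) hW, hzq,
      map_zero, map_zero, add_zero]
  | tmul b t =>
    obtain ⟨W, hW, hxW, hb⟩ := hxS U₂ hx₂ ((cokernel.π φ).app U₂ b)
    rw [app_res] at hb
    obtain ⟨a, ha⟩ := Groth.Agent.SiteCoh.sections_exact (shortExact_toAb (shortExact_ker (cokernel.π φ))) W
      (res B hW b) hb
    obtain ⟨V, hV, hxV, a', ha'⟩ := TMul.exists_app_eq_of_epi (Abelian.factorThruImage φ) a hxW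
    refine ⟨V, hV.trans hW, hxV, ?_⟩
    have h2 : φ.app V a' = res B (hV.trans hW) b := by
      have ha0 : (Abelian.image.ι φ).app W a = res B hW b := ha
      have h3 : φ.app V a' = (Abelian.image.ι φ).app V ((Abelian.factorThruImage φ).app V a') := by
        change _ = (Abelian.factorThruImage φ ≫ Abelian.image.ι φ).app V a'
        rw [Abelian.image.fac]
      rw [h3, ha', ← app_res, ha0, res_res]
    rw [TMul.tt_tmul, app_res, TMul.res_tm, ← h2, ← tmap_tm]
    change (tmap φ T ≫ cokernel.π (tmap φ T)).app V _ = 0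
    rw [cokernel.condition]
    rfl

/-- A nonzero map out of a pencil. -/
lemma exists_not_scalar (k : Type u) [Field k] [X.Over (Spec (CommRingCat.of k))] {L I : X.Modules}
    (hI : PicF.IsInvertible I) (e : CohB1.tensorMod L I ≅ Coh.structureModule X) (ι : I ⟶ Coh.structureModule X)
    {s₁ s₂ : Γ(L, ⊤)} (h : ∀ a b : k, cst k X ⊤ a • s₁ + cst k X ⊤ b • s₂ = 0 → a = 0 ∧ b = 0)
    [IsProper (X ↘ Spec (CommRingCat.of k))] :
    ∃ ψ : I ⟶ Coh.structureModule X,
      ∀ c : k, ψ - ι ≫ scal _ (Coh.toGlobal (X ↘ Spec (CommRingCat.of k)) c) ≠ 0 := by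
  let Φ : Γ(L, ⊤) → (I ⟶ Coh.structureModule X) := fun s =>
    (TMul.leftUnitIso I).inv ≫ tmap (homOf s) I ≫ e.hom
  have hadd : ∀ s t, Φ (s + t) = Φ s + Φ t := fun s t => by
    simp only [Φ, homOf_add, tmap_add, Preadditive.add_comp, Preadditive.comp_add]
  have hsm : ∀ (a : k) s, Φ (cst k X ⊤ a • s) = Φ s ≫ scal _ (Coh.toGlobal (X ↘ Spec (CommRingCat.of k)) a) :=
    fun a s => by
      simp only [Φ, W7Slope.homOf_cst_smul, tmap_scal, Category.assoc, scal_comp]
  have hinj : ∀ s, Φ s = 0 → s = 0 := fun s hs => by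
    have h0 : tmap (homOf s) I = 0 := by
      have h2 := congrArg (fun f => (TMul.leftUnitIso I).hom ≫ f ≫ e.inv) hs
      simpa [Φ] using h2
    refine section_eq_of_locally fun x _ => ?_
    obtain ⟨U, g, hxU, hg⟩ := TMul.exists_isGen hI x
    refine ⟨U, le_top, hxU, (TMul.tm_bijective (M := L) hg U le_rfl).1 ?_⟩
    have h3 : (tmap (homOf s) I).app U (tm (1 : Γ(X, U)) g) = 0 := by rw [h0]; rfl
    rw [tmap_tm, TMul.app_eq_smul, one_smul, val_homOf] at h3
    simp only [map_zero, TMul.zero_tm, res_self]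
    exact h3
  by_contra hno
  push Not at hno
  obtain ⟨c₁, h₁⟩ := hno (Φ s₁)
  obtain ⟨c₂, h₂⟩ := hno (Φ s₂)
  rw [sub_eq_zero] at h₁ h₂
  have h3 : Φ (cst k X ⊤ c₂ • s₁ + cst k X ⊤ (-c₁) • s₂) = 0 := by
    rw [hadd, hsm, hsm, h₁, h₂, Category.assoc, Category.assoc, ← Preadditive.comp_add]
    have h6 : scal (Coh.structureModule X) (Coh.toGlobal (X ↘ Spec (CommRingCat.of k)) c₁) ≫
          scal _ (Coh.toGlobal (X ↘ Spec (CommRingCat.of k)) c₂) +
        scal (Coh.structureModule X) (Coh.toGlobal (X ↘ Spec (CommRingCat.of k)) c₂) ≫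
          scal _ (Coh.toGlobal (X ↘ Spec (CommRingCat.of k)) (-c₁)) = 0 := by
      change scalHom (k := k) (Coh.structureModule X) c₂ * scalHom (k := k) (Coh.structureModule X) c₁ +
        scalHom (k := k) (Coh.structureModule X) (-c₁) * scalHom (k := k) (Coh.structureModule X) c₂ = 0
      rw [← map_mul, ← map_mul, ← map_add, show c₂ * c₁ + -c₁ * c₂ = 0 by ring, map_zero]
    rw [h6, Limits.comp_zero]
  obtain ⟨hc₂, hc₁⟩ := h _ _ (hinj _ h3)
  have h4 : Φ s₁ = 0 := by
    rw [h₁, neg_eq_zero.1 hc₁, show scal (Coh.structureModule X) (Coh.toGlobal (X ↘ Spec (CommRingCat.of k)) 0) =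
      scalHom (k := k) (Coh.structureModule X) 0 from rfl, map_zero, Limits.comp_zero]
  have h5 := h 1 0 (by
    rw [hinj _ h4]
    simp)
  exact one_ne_zero h5.1

variable (k : Type u) [Field k] [X.Over (Spec (CommRingCat.of k))] [IsProper (X ↘ Spec (CommRingCat.of k))]
  [IsIntegral X]

include k in
/-- A nonzero map into an invertible module stays onto on `H^1` after tensoring. -/
theorem h1_tmap_surjective (hdim : topologicalKrullDim X ≤ 1) {A B : X.Modules} (hA : Coh.IsCoh A)
    (hB : PicF.IsInvertible B) {φ : A ⟶ B} (hφ : φ ≠ 0) (T : X.Modules) :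
    Function.Surjective (hhMap k (tmap φ T) 1) := by
  haveI := isNoetherian_of_proper k X
  have hC : Coh.IsCoh (cokernel φ) := Groth.Agent.QC.isCoh_cokernel hA.1 (isCoh_of_inv hB) φ
  have hcl := Groth.Agent.QC.isClosed_support hC.2
  exact h1_surjective hdim _ hcl (dim_le_zero_of_closed hdim hcl
    (notMem_support_coker _ _ (surjective_stalk_generic hB φ hφ))) (support_coker_tmap φ T)

lemma hhMap_pencil {A B : X.Modules} (ι ψ : A ⟶ B) (T : X.Modules) (c : k) (q : ℕ)
    (v : Coh.HH X (CohB1.tensorMod A T) q) :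
    hhMap k (tmap (ψ - ι ≫ scal B (Coh.toGlobal (X ↘ Spec (CommRingCat.of k)) c)) T) q v +
      c • hhMap k (tmap ι T) q v = hhMap k (tmap ψ T) q v := by
  have h1 : tmap ψ T = tmap (ψ - ι ≫ scal B (Coh.toGlobal (X ↘ Spec (CommRingCat.of k)) c)) T +
      tmap ι T ≫ scal _ (Coh.toGlobal (X ↘ Spec (CommRingCat.of k)) c) := by
    rw [← tmap_scal, ← tmap_add, sub_add_cancel]
  rw [h1, W7Slope.hhMap_add, hhMap_comp, W7Slope.hhMap_scal]

/-- The pencil argument. -/
theorem subsingleton_of_pencil [IsAlgClosed k] (hdim : topologicalKrullDim X ≤ 1) {A B : X.Modules}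
    (hA : Coh.IsCoh A) (hB : PicF.IsInvertible B) (ι ψ : A ⟶ B)
    (hψ : ∀ c : k, ψ - ι ≫ scal B (Coh.toGlobal (X ↘ Spec (CommRingCat.of k)) c) ≠ 0)
    {T : X.Modules} (hT : Coh.IsCoh T) (hbij : Function.Bijective (hhMap k (tmap ι T) 1)) :
    Subsingleton (Coh.HH X (CohB1.tensorMod A T) 1) := by
  haveI := finite_proper k X _ (isCoh_tensor' hA hT) 1
  haveI := finite_proper k X _ (isCoh_tensor' (isCoh_of_inv hB) hT) 1
  by_contra hne
  haveI : Nontrivial (Coh.HH X (CohB1.tensorMod A T) 1) := not_subsingleton_iff_nontrivial.1 hne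
  let f₀ := LinearEquiv.ofBijective (hhMap k (tmap ι T) 1) hbij
  obtain ⟨c, hc⟩ := Module.End.exists_eigenvalue (f₀.symm.toLinearMap ∘ₗ hhMap k (tmap ψ T) 1)
  obtain ⟨v, hv⟩ := hc.exists_hasEigenvector
  let g := hhMap k (tmap (ψ - ι ≫ scal B (Coh.toGlobal (X ↘ Spec (CommRingCat.of k)) c)) T) 1
  have hg : Function.Surjective g := h1_tmap_surjective k hdim hA hB (hψ c) T
  have hinj : Function.Injective g :=
    (LinearMap.injective_iff_surjective_of_finrank_eq_finrank f₀.finrank_eq).2 hg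
  refine hv.2 (hinj ?_)
  have h1 : hhMap k (tmap ψ T) 1 v = c • hhMap k (tmap ι T) 1 v := by
    have h2 := congrArg f₀ hv.apply_eq_smul
    rw [LinearMap.comp_apply, LinearEquiv.coe_toLinearMap, LinearEquiv.apply_symm_apply, map_smul] at h2
    exact h2
  rw [map_zero]
  have h3 := hhMap_pencil k ι ψ T c 1 v
  rw [h1] at h3
  exact add_eq_right.1 h3

attribute [local instance] Nakai.clMonoid CurveRR.secMod

/-- Twisting down by a divisor of smaller degree kills the first cohomology. -/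
theorem subsingleton_h1_twist [IsAlgClosed k] (hdim : topologicalKrullDim X = 1) {T : X.Modules}
    (hT : FlatMod.IsFinLocFree T) (D E : X.IdealSheafData) (hD : BlowUp.IsEffCartierIdeal D)
    (hE : BlowUp.IsEffCartierIdeal E)
    (hD1 : 1 ≤ Module.finrank k (Coh.HH X (ClSub.quotMod D) 0))
    (hDg : 2 * Curv2.genus k X ≤ Module.finrank k (Coh.HH X (ClSub.quotMod D) 0))
    (hdeg : Module.finrank k (Coh.HH X (ClSub.quotMod E) 0) + 2 * Curv2.genus k X =
      Module.finrank k (Coh.HH X (ClSub.quotMod D) 0))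
    (hsurj : Function.Surjective (hhMap k ((TMul.commIso T (Coh.structureModule X)).hom ≫
      tmap (ClSub.toSubscheme D) T ≫ (TMul.commIso (ClSub.quotMod D) T).hom) 0)) :
    Subsingleton (Coh.HH X (CohB1.tensorMod T (ClSub.idealMod E)) 1) := by
  haveI := isNoetherian_of_proper k X
  have hd : topologicalKrullDim X ≤ 1 := hdim.le
  have hDi : PicF.IsInvertible (ClSub.idealMod D) := (Groth.Agent.S8914.result _).mpr hD
  have hEi : PicF.IsInvertible (ClSub.idealMod E) := (Groth.Agent.S8914.result _).mpr hE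
  have hTc : Coh.IsCoh T := ⟨LocFree.isQCoh_of_isFinLocFree hT, LocFree.isFT_of_isFinLocFree hT⟩
  have hsm : ∀ (Z : X.IdealSheafData), BlowUp.IsEffCartierIdeal Z →
      topologicalKrullDim (Z.support : Set X) ≤ 0 := fun Z hZ => by
    refine dim_le_zero_of_closed hd Z.support.isClosed (W7Fib.genericPoint_notMem_support fun h => ?_)
    obtain ⟨U, hxU, f, hf, hUf⟩ := hZ (genericPoint X)
    haveI : Nonempty U.1 := ⟨⟨_, hxU⟩⟩
    refine one_ne_zero (α := Γ(X, U.1)) ((mem_nonZeroDivisors_iff.1 hf).1 1 ?_)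
    rw [mul_one]
    have h2 : f ∈ Z.ideal U := hUf ▸ Ideal.mem_span_singleton_self f
    rw [h] at h2
    simpa using h2
  obtain ⟨L, hL, ⟨e'⟩⟩ := W7Hull.exists_tensor_inverse hDi
  let e : CohB1.tensorMod L (ClSub.idealMod D) ≅ Coh.structureModule X := TMul.commIso _ _ ≪≫ e'
  have h0 := CurveRR.h0_structure k X
  have hχ : Curv2.euler k X L = 1 - Curv2.genus k X + h k (ClSub.quotMod D) 0 := by
    have h1 := euler_ideal_tensor (k := k) hL D (hsm D hD)
    rw [euler_eq_of_iso e', euler_structure hd h0] at h1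
    omega
  have hL2 : 2 ≤ Module.finrank k Γ(L, ⊤) := by
    rw [finrank_sec]
    have h2 := euler_eq (k := k) hd L
    change 1 ≤ h k (ClSub.quotMod D) 0 at hD1
    change 2 * Curv2.genus k X ≤ h k (ClSub.quotMod D) 0 at hDg
    omega
  obtain ⟨v, hv⟩ := exists_linearIndependent_of_le_finrank hL2
  obtain ⟨ψ, hψ⟩ := exists_not_scalar k hDi e (ClSub.idealModι D) (s₁ := v 0) (s₂ := v 1) fun a b hab => by
    exact (LinearIndependent.pair_iff.1 (show LinearIndependent k ![v 0, v 1] by
      convert hv using 1; funext i; fin_cases i <;> rfl) a b hab)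
  have hι : ClSub.idealModι D ≠ 0 := fun h => by
    obtain ⟨U, g, hxU, hg⟩ := TMul.exists_isGen hDi (genericPoint X)
    haveI : Mono (ClSub.idealModι D) := (ideal_shortExact D).mono_f
    have h1 : (ClSub.idealModι D).app U g = 0 := by rw [h]; rfl
    have h2 : g = 0 := Groth.Agent.QC.app_injective_of_mono (ClSub.idealModι D) U (h1.trans (map_zero _).symm)
    haveI : Nonempty U := ⟨⟨_, hxU⟩⟩
    refine one_ne_zero (α := Γ(X, U)) ((hg U le_rfl).1 (?_ : _ = (0 : Γ(X, U)) • res _ le_rfl g))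
    simp only [res_self, h2, smul_zero]
  have hS := shortExact_tmapR (hasFrames hT) (ideal_shortExact D)
  have hsurj' : Function.Surjective (hhMap k (tmap (ClSub.toSubscheme D) T) 0) := fun y => by
    obtain ⟨x, hx⟩ := hsurj (hhMap k (TMul.commIso (ClSub.quotMod D) T).hom 0 y)
    refine ⟨hhMap k (TMul.commIso T (Coh.structureModule X)).hom 0 x, ?_⟩
    rw [hhMap_comp, hhMap_comp] at hx
    exact (hhEquiv k (TMul.commIso (ClSub.quotMod D) T) 0).injective hx
  have hbij : Function.Bijective (hhMap k (tmap (ClSub.idealModι D) T) 1) := by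
    refine ⟨(injective_iff_map_eq_zero _).2 fun x hx => ?_,
      h1_tmap_surjective k hd (isCoh_of_inv hDi) (TMul.isInvertible_structureModule (X := X)) hι T⟩
    obtain ⟨z, rfl⟩ := (map_f_eq_zero_iff (shortExact_toAb hS) 0 x).1 hx
    exact (δH_eq_zero_iff (shortExact_toAb hS) 0 z).2 (hsurj' z)
  haveI hA := subsingleton_of_pencil k hd (isCoh_of_inv hDi) (TMul.isInvertible_structureModule (X := X))
    (ClSub.idealModι D) ψ hψ hTc hbij
  let L₂ := CohB1.tensorMod L (ClSub.idealMod E)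
  have hL₂ : PicF.IsInvertible L₂ := TMul.isInvertible_tensorMod hL hEi
  have hχ₂ : Curv2.euler k X L₂ = Curv2.euler k X L - h k (ClSub.quotMod E) 0 := by
    rw [euler_eq_of_iso (TMul.commIso L (ClSub.idealMod E)), euler_ideal_tensor (k := k) hL E (hsm E hE)]
  have hpos : 0 < Module.finrank k Γ(L₂, ⊤) := by
    rw [finrank_sec]
    have h2 := euler_eq (k := k) hd L₂
    change h k (ClSub.quotMod E) 0 + _ = h k (ClSub.quotMod D) 0 at hdeg
    omega
  haveI : Nontrivial Γ(L₂, ⊤) := Module.nontrivial_of_finrank_pos hpos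
  obtain ⟨s, hs⟩ := exists_ne (0 : Γ(L₂, ⊤))
  obtain ⟨e₂⟩ := Nakai.iso_of_cl (show PicF.cl (CohB1.tensorMod L₂ (ClSub.idealMod D)) =
      PicF.cl (ClSub.idealMod E) by
    rw [Nakai.cl_tensor, Nakai.cl_tensor, mul_comm (PicF.cl L), mul_assoc, Nakai.cl_inv ⟨e⟩, mul_one])
  let φ : ClSub.idealMod D ⟶ ClSub.idealMod E :=
    (TMul.leftUnitIso _).inv ≫ tmap (homOf s) (ClSub.idealMod D) ≫ e₂.hom
  have hφ : φ ≠ 0 := fun hz => hs (by
    have h0' : tmap (homOf s) (ClSub.idealMod D) = 0 := by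
      have h2 := congrArg (fun f => (TMul.leftUnitIso _).hom ≫ f ≫ e₂.inv) hz
      simpa [φ] using h2
    refine section_eq_of_locally fun x _ => ?_
    obtain ⟨U, g, hxU, hg⟩ := TMul.exists_isGen hDi x
    refine ⟨U, le_top, hxU, (TMul.tm_bijective (M := L₂) hg U le_rfl).1 ?_⟩
    have h3 : (tmap (homOf s) (ClSub.idealMod D)).app U (tm (1 : Γ(X, U)) g) = 0 := by rw [h0']; rfl
    rw [tmap_tm, TMul.app_eq_smul, one_smul, val_homOf] at h3
    simp only [map_zero, TMul.zero_tm, res_self]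
    exact h3)
  have hsur := h1_tmap_surjective k hd (isCoh_of_inv hDi) hEi hφ T
  haveI : Subsingleton (Coh.HH X (CohB1.tensorMod (ClSub.idealMod E) T) 1) := hsur.subsingleton
  exact CohQC.hh_subsingleton_of_iso (TMul.commIso (ClSub.idealMod E) T) 1 inferInstance

end Groth.Agent.PencilH1
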